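import Cfsg.Agent.Lib.KInfinity.Quartic
import Cfsg.Agent.Lib.Qd.Involved

/-!
K-infinity subgroups of `p`-subgroups above `O_p`, and stability for abelian Sylow 2-subgroups.
-/

namespace Cfsg.Agent.Lib.PrimPair

open Subgroup Cfsg Cfsg.Agent.Lib.KInfinity
open scoped commutatorElement

universe u

/-- The Sylow subgroup of `exists_witness` may be any `p`-subgroup containing `O_p`. -/
theorem exists_witness_of_pGroup {G : Type u} [Group G] [Finite G] {p : ℕ} [Fact p.Prime] {A : Subgroup G}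
    (hA : IsCriticalIn p A) (S : Subgroup G) (hS : IsPGroup p S) (hTS : pCore p G ≤ S)
    (hK : ¬ (inducedFunctor kInfLower S).Normal ∨
      ¬ (inducedFunctor kInfUpper S).Normal) :
    ∃ g ∈ S, g ∉ pCore p G ∧ IsWitness p A g := by
  classical
  by_contra hcon
  push Not at hcon
  have hno : ∀ g ∈ S, g ∉ pCore p G → ¬ IsWitness p A g := hcon
  have hAS : A ≤ S := hA.le.trans hTS
  let φ := S.subtype
  have hφ : Function.Injective φ := Subtype.val_injective
  have hle : ∀ B : Subgroup ↥S, B.map φ ≤ S := fun B =>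
    map_subtype_le B
  have hSp : ∀ B : Subgroup ↥S, IsPGroup p (B.map φ) := fun B =>
    hS.to_le (hle B)
  have hAmap : (A.subgroupOf S).map φ = A := by
    rw [subgroupOf_map_subtype, inf_eq_left.mpr hAS]
  have hlowT : ∀ O : Subgroup ↥S, A ≤ O.map φ →
      (sSup (kLowerStarFamily O)).map φ ≤ pCore p G := by
    intro O hO
    rw [(gc_map_comap φ).l_sSup, iSup₂_le_iff]
    exact fun B hB => lower_le_pCore hA hno (hle B) (hSp B) hO ((lower_map hφ B O).mpr hB)
  have hlowA : ∀ O : Subgroup ↥S, A ≤ (sSup (kLowerStarFamily O)).map φ := by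
    intro O
    conv_lhs => rw [← hAmap]
    refine map_mono (le_sSup ((lower_map hφ _ O).mp ?_))
    rw [hAmap]
    exact critical_mem_lower hA (hle O) hno
  have hev : ∀ n : ℕ, (kSeqEven ↥S n).map φ ≤ pCore p G ∧
      (kSeqOdd ↥S (n + 1)).map φ ≤ pCore p G := by
    have hodd : ∀ n : ℕ, (kSeqOdd ↥S (n + 1)).map φ ≤ pCore p G := by
      intro n
      rw [kSeqOdd_succ (P := ↥S), (gc_map_comap φ).l_sSup, iSup₂_le_iff]
      exact fun B hB => upper_le_pCore hA hno (hle B) (hlowA _) ((upper_map hφ B _).mpr hB)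
    intro n
    refine ⟨?_, hodd n⟩
    induction n with
    | zero =>
      refine hlowT _ ?_
      rw [show kSeqOdd ↥S 0 = ⊤ from rfl, ← MonoidHom.range_eq_map]
      simpa [φ] using hAS
    | succ n ih =>
      refine hlowT _ ?_
      rw [kSeqOdd_succ (P := ↥S)]
      conv_lhs => rw [← hAmap]
      refine map_mono (le_sSup ((upper_map hφ _ _).mp ?_))
      rw [hAmap]
      exact ⟨hA.classTwo, (commutator_mono le_rfl ih).trans ((commutator_comm A _).le.trans hA.comm)⟩
  let f : ↥(pCore p G) →* ↥S := Subgroup.inclusion hTS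
  have hr : ∀ B : Subgroup ↥S, B.map φ ≤ pCore p G → B ≤ f.range :=
    fun B hB b hb => ⟨⟨b, hB (mem_map_of_mem φ hb)⟩, Subtype.ext rfl⟩
  have key := map_kInf (Subgroup.inclusion_injective hTS) fun n =>
    ⟨hr _ (hev n).1, hr _ (hev n).2⟩
  haveI := pCore_normal' (G := G) (p := p)
  have hcomp : φ.comp f = (pCore p G).subtype := rfl
  haveI h1 : (kInfLower ↥(pCore p G)).Characteristic :=
    characteristic_iff_map_eq.mpr fun e => (map_kInf_equiv e).1
  haveI h2 : (kInfUpper ↥(pCore p G)).Characteristic :=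
    characteristic_iff_map_eq.mpr fun e => (map_kInf_equiv e).2
  rcases hK with h | h
  · refine h ?_
    show ((kInfLower ↥S).map φ).Normal
    rw [← key.1, map_map, hcomp]
    exact ConjAct.normal_of_characteristic_of_normal
  · refine h ?_
    show ((kInfUpper ↥S).map φ).Normal
    rw [← key.2, map_map, hcomp]
    exact ConjAct.normal_of_characteristic_of_normal


/-- With stable quotients the lower K-infinity subgroup of every `p`-subgroup above `O_p` is normal. -/
theorem kInfLower_normal {G : Type u} [Group G] [Finite G] {p : ℕ} [Fact p.Prime] (X : Subgroup G)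
    (hX : IsPGroup p X) (hle : pCore p G ≤ X)
    (hc : centralizer ((pCore p G : Subgroup G) : Set G) ≤ pCore p G)
    (hst : ∀ (N : Subgroup G) [N.Normal], IsNormalizerPStable p (G ⧸ N)) :
    (inducedFunctor kInfLower X).Normal := by
  by_contra hcon
  obtain ⟨A, hA, -⟩ := exists_isCriticalIn (G := G) p
  obtain ⟨g, -, -, -, -, h⟩ := exists_witness_of_pGroup hA X hX hle (Or.inl hcon)
  obtain ⟨U, V, hUV, hU, hq, hn⟩ := h hc
  obtain ⟨N, hN, hns⟩ := exists_quotient_not_stable hUV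
    (Cfsg.Agent.Lib.PSolvable.pCore_isPGroup.to_le (hU.trans hA.le)) hq hn
  exact hns (hst N)

/-- All Sylow 2-subgroups are abelian. -/
def CommSylowTwo (G : Type*) [Group G] : Prop :=
  ∀ S : Sylow 2 G, IsMulCommutative (S : Subgroup G)

theorem CommSylowTwo.subgroup {G : Type*} [Group G] (h : CommSylowTwo G) (H : Subgroup G) :
    CommSylowTwo H := by
  intro S
  obtain ⟨T, hT⟩ := (S.2.map H.subtype).exists_le_sylow
  refine ⟨⟨fun a b => ?_⟩⟩
  have := (h T).is_comm.comm (⟨_, hT (mem_map_of_mem _ a.2)⟩ : (T : Subgroup G))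
    ⟨_, hT (mem_map_of_mem _ b.2)⟩
  exact Subtype.ext (Subtype.ext (congrArg (fun x : (T : Subgroup G) => (x : G)) this))

theorem CommSylowTwo.of_surjective {G H : Type*} [Group G] [Group H] [Finite G]
    (h : CommSylowTwo G) (f : G →* H) (hf : Function.Surjective f) : CommSylowTwo H := by
  haveI : Finite H := Finite.of_surjective f hf
  haveI : Fact (Nat.Prime 2) := ⟨Nat.prime_two⟩
  intro S
  obtain ⟨S0⟩ : Nonempty (Sylow 2 G) := Sylow.nonempty
  obtain ⟨g, rfl⟩ := MulAction.exists_smul_eq H (S0.mapSurjective hf) S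
  obtain ⟨g, rfl⟩ := hf g
  refine ⟨⟨fun a b => Subtype.ext ?_⟩⟩
  have key : ∀ x ∈ ((f g • S0.mapSurjective hf : Sylow 2 H) : Subgroup H),
      ∃ y ∈ ((g • S0 : Sylow 2 G) : Subgroup G), f y = x := by
    intro x hx
    rw [Sylow.coe_subgroup_smul, Subgroup.mem_pointwise_smul_iff_inv_smul_mem] at hx
    obtain ⟨y, hy, hyx⟩ := hx
    refine ⟨g * y * g⁻¹, ?_, ?_⟩
    · rw [Sylow.coe_subgroup_smul]
      exact Subgroup.smul_mem_pointwise_smul _ (MulAut.conj g) _ hy
    · simp only [MulAut.smul_def, MulAut.inv_def, MulAut.conj_symm_apply] at hyx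
      rw [map_mul, map_mul, map_inv, hyx]
      group
  obtain ⟨y, hy, hya⟩ := key _ a.2
  obtain ⟨z, hz, hzb⟩ := key _ b.2
  have := congrArg Subtype.val ((h (g • S0)).is_comm.comm (⟨y, hy⟩ : ((g • S0 : Sylow 2 G) : Subgroup G)) ⟨z, hz⟩)
  rw [Subgroup.coe_mul, Subgroup.coe_mul, ← hya, ← hzb, ← map_mul, ← map_mul]
  exact congrArg f this

open Matrix in
theorem not_commSylowTwo_qd {p : ℕ} [Fact p.Prime] (hp : p ≠ 2) : ¬ CommSylowTwo (Cfsg.qd p) := by
  intro h
  obtain ⟨a, b, hab⟩ := ZMod.sq_add_sq p (-1)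
  have h2 : (2 : ZMod p) ≠ 0 := by
    intro h0
    have h0' : ((2 : ℕ) : ZMod p) = 0 := by exact_mod_cast h0
    exact hp ((Nat.prime_dvd_prime_iff_eq Fact.out Nat.prime_two).mp ((ZMod.natCast_eq_zero_iff 2 p).mp h0'))
  let i : SpecialLinearGroup (Fin 2) (ZMod p) := ⟨!![0, 1; -1, 0], by simp [Matrix.det_fin_two]⟩
  let j : SpecialLinearGroup (Fin 2) (ZMod p) := ⟨!![a, b; b, -a], by
    rw [Matrix.det_fin_two]; simp; linear_combination -hab⟩
  have hi : i ^ 4 = 1 := by
    apply Subtype.ext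
    show (!![0, 1; -1, 0] : Matrix (Fin 2) (Fin 2) (ZMod p)) ^ 4 = 1
    ext r s; fin_cases r <;> fin_cases s <;> simp [pow_succ, Matrix.mul_apply, Fin.sum_univ_two]
  have hj : j ^ 4 = 1 := by
    apply Subtype.ext
    show (!![a, b; b, -a] : Matrix (Fin 2) (Fin 2) (ZMod p)) ^ 4 = 1
    have hsq : (!![a, b; b, -a] : Matrix (Fin 2) (Fin 2) (ZMod p)) ^ 2 = -1 := by
      ext r s; fin_cases r <;> fin_cases s <;> simp [pow_two, Matrix.mul_apply, Fin.sum_univ_two] <;>
        first | ring1 | linear_combination hab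
    rw [show (4 : ℕ) = 2 + 2 from rfl, pow_add, hsq]
    simp
  have hji : j * i = i⁻¹ * j := by
    rw [eq_inv_mul_iff_mul_eq]
    apply Subtype.ext
    show (!![0, 1; -1, 0] : Matrix (Fin 2) (Fin 2) (ZMod p)) * (!![a, b; b, -a] * !![0, 1; -1, 0]) = !![a, b; b, -a]
    ext r s; fin_cases r <;> fin_cases s <;> simp [Matrix.mul_apply, Fin.sum_univ_two]
  have hzp : ∀ w : SpecialLinearGroup (Fin 2) (ZMod p), w ^ 4 = 1 → IsPGroup 2 (zpowers w) := by
    intro w hw x
    obtain ⟨n, hn⟩ := x.2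
    refine ⟨2, Subtype.ext ?_⟩
    rw [Subgroup.coe_pow, ← hn]
    show (w ^ n) ^ (2 ^ 2) = 1
    rw [← zpow_natCast, ← _root_.zpow_mul, mul_comm, _root_.zpow_mul, zpow_natCast]
    norm_num [hw]
  have hn : zpowers j ≤ normalizer (zpowers i : Set (SpecialLinearGroup (Fin 2) (ZMod p))) := by
    rw [zpowers_le, mem_normalizer_iff_map_conj_eq, MonoidHom.map_zpowers]
    show zpowers (j * i * j⁻¹) = zpowers i
    rw [hji, mul_inv_cancel_right, zpowers_inv]
  have hH : IsPGroup 2 (zpowers j ⊔ zpowers i : Subgroup _) :=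
    (hzp j hj).to_sup_of_normal_right' (hzp i hi) hn
  obtain ⟨(T : Sylow 2 (Cfsg.qd p)), hT⟩ := (hH.map ((Cfsg.Agent.Lib.Qd.emb (F := ZMod p)) : SpecialLinearGroup (Fin 2) (ZMod p) →* Cfsg.qd p)).exists_le_sylow
  have hc := congrArg Subtype.val ((h T).is_comm.comm
    (⟨_, hT (mem_map_of_mem _ (mem_sup_left (mem_zpowers j)))⟩ : (T : Subgroup (Cfsg.qd p)))
    ⟨_, hT (mem_map_of_mem _ (mem_sup_right (mem_zpowers i)))⟩)
  simp only [Subgroup.coe_mul, ← map_mul] at hc
  have hc' : j * i = i * j := by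
    have h1 := congrArg Cfsg.Agent.Lib.Qd.block (show (Cfsg.Agent.Lib.Qd.emb (j * i) : Cfsg.qd p) = Cfsg.Agent.Lib.Qd.emb (i * j) from (map_mul _ _ _).trans (hc.trans (map_mul _ _ _).symm))
    simpa [Cfsg.Agent.Lib.Qd.emb, Cfsg.Agent.Lib.Qd.block_mk] using h1
  have hm : (!![a, b; b, -a] : Matrix (Fin 2) (Fin 2) (ZMod p)) * !![0, 1; -1, 0] =
      !![0, 1; -1, 0] * !![a, b; b, -a] := congrArg Subtype.val hc'
  have e00 := congrFun (congrFun hm 0) 0
  have e01 := congrFun (congrFun hm 0) 1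
  simp [Matrix.mul_apply, Fin.sum_univ_two] at e00 e01
  have hb : b = 0 := (mul_eq_zero.mp (show (2 : ZMod p) * b = 0 by linear_combination -e00)).resolve_left h2
  have ha : a = 0 := (mul_eq_zero.mp (show (2 : ZMod p) * a = 0 by linear_combination e01)).resolve_left h2
  rw [ha, hb] at hab
  simp at hab

/-- Abelian Sylow 2-subgroups make every quotient `p`-stable, `p` odd. -/
theorem stable_of_commSylowTwo {G : Type u} [Group G] [Finite G] {p : ℕ} [Fact p.Prime] (hp : p ≠ 2)
    (h : CommSylowTwo G) (N : Subgroup G) [N.Normal] : IsNormalizerPStable p (G ⧸ N) := by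
  refine Cfsg.Agent.Lib.Qd.isNormalizerPStable_of_not_involves hp ?_
  rintro ⟨K, R, hR, ⟨e⟩⟩
  exact not_commSylowTwo_qd hp ((((h.of_surjective (QuotientGroup.mk' N) (QuotientGroup.mk'_surjective N)).subgroup K).of_surjective
    (QuotientGroup.mk' (R.subgroupOf K)) (QuotientGroup.mk'_surjective _)).of_surjective e.toMonoidHom e.surjective)

end Cfsg.Agent.Lib.PrimPair
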